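import Groth.Agent.L27.Product.Split
import Mathlib.AlgebraicGeometry.AlgClosed.Basic

/-! The slices of a cover of a product. -/

set_option autoImplicit false
set_option linter.style.haveILetI false
set_option backward.isDefEq.respectTransparency.types false

universe u

open CategoryTheory CategoryTheory.Limits AlgebraicGeometry Groth.L27.FEtProper

namespace Groth.L27.Product

/-- covers isomorphic on the members of a disjoint open cover are isomorphic -/
theorem nonempty_iso_of_cover {X : Scheme.{u}} {ι : Type u} (O : ι → X.Opens) (hO : ∀ x : X, ∃ i, x ∈ O i)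
    (hdis : ∀ i j, i ≠ j → ∀ x, x ∈ O i → x ∉ O j) {A B : FEt.Cat X}
    (h : ∀ i, Nonempty ((FEt.restrict (O i).ι).obj A ≅ (FEt.restrict (O i).ι).obj B)) : Nonempty (A ≅ B) := by
  let 𝒰 : X.OpenCover := X.openCoverOfIsOpenCover O (TopologicalSpace.IsOpenCover.mk
    (eq_top_iff.2 fun x _ => TopologicalSpace.Opens.mem_iSup.2 (hO x)))
  have key : ∀ (A B : FEt.Cat X) (e : ∀ i, (FEt.restrict (O i).ι).obj A ≅ (FEt.restrict (O i).ι).obj B),
      ∃ m : A.left ⟶ B.left, m ≫ B.hom = A.hom ∧ ∀ i, pullback.fst A.hom (O i).ι ≫ m =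
        ((MorphismProperty.Over.forget _ _ _ ⋙ Over.forget _).mapIso (e i)).hom ≫ pullback.fst B.hom (O i).ι := by
    intro A B e
    let el := fun i => ((MorphismProperty.Over.forget _ _ _ ⋙ Over.forget _).mapIso (e i)).hom
    let 𝒱 : A.left.OpenCover := 𝒰.pullback₁ A.hom
    let m : A.left ⟶ B.left := 𝒱.glueMorphisms (fun (i : ι) => el i ≫ pullback.fst B.hom (O i).ι) (by
      intro (i : ι) (j : ι)
      rcases eq_or_ne i j with rfl | hij
      · have : pullback.fst (𝒱.f i) (𝒱.f i) = pullback.snd (𝒱.f i) (𝒱.f i) := by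
          haveI : IsOpenImmersion (𝒱.f i) := 𝒱.map_prop i
          rw [← cancel_mono (𝒱.f i)]; exact pullback.condition
        rw [this]
      · haveI : IsEmpty ↥(pullback (𝒱.f i) (𝒱.f j)) := ⟨fun z => by
          have h1 : pullback.fst (𝒱.f i) (𝒱.f j) ≫ pullback.fst A.hom (O i).ι ≫ A.hom =
              pullback.snd (𝒱.f i) (𝒱.f j) ≫ pullback.fst A.hom (O j).ι ≫ A.hom :=
            (pullback.condition_assoc (f := 𝒱.f i) (g := 𝒱.f j) A.hom)
          have h1' := (congrArg (pullback.fst (𝒱.f i) (𝒱.f j) ≫ ·) (pullback.condition (f := A.hom) (g := (O i).ι))).symm.trans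
            (h1.trans (congrArg (pullback.snd (𝒱.f i) (𝒱.f j) ≫ ·) (pullback.condition (f := A.hom) (g := (O j).ι))))
          have h2 : (O i).ι (pullback.snd A.hom (O i).ι (pullback.fst (𝒱.f i) (𝒱.f j) z)) =
              (O j).ι (pullback.snd A.hom (O j).ι (pullback.snd (𝒱.f i) (𝒱.f j) z)) :=
            congrArg (fun t : pullback (𝒱.f i) (𝒱.f j) ⟶ X => t z) h1'
          exact hdis i j hij _ (pullback.snd A.hom (O i).ι (pullback.fst (𝒱.f i) (𝒱.f j) z)).2
            (by
              have : (O i).ι (pullback.snd A.hom (O i).ι (pullback.fst (𝒱.f i) (𝒱.f j) z)) ∈ O j := by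
                rw [h2]; exact (pullback.snd A.hom (O j).ι (pullback.snd (𝒱.f i) (𝒱.f j) z)).2
              exact this)⟩
        exact isInitialOfIsEmpty.hom_ext _ _)
    have hm : ∀ i, pullback.fst A.hom (O i).ι ≫ m = el i ≫ pullback.fst B.hom (O i).ι := fun i => 𝒱.ι_glueMorphisms _ _ i
    refine ⟨m, 𝒱.hom_ext _ _ fun (i : ι) => ?_, hm⟩
    show pullback.fst A.hom (O i).ι ≫ m ≫ B.hom = pullback.fst A.hom (O i).ι ≫ A.hom
    have he : el i ≫ pullback.snd B.hom (O i).ι = pullback.snd A.hom (O i).ι := MorphismProperty.Over.w (e i).hom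
    rw [reassoc_of% (hm i)]
    exact ((congrArg (el i ≫ ·) (pullback.condition (f := B.hom) (g := (O i).ι))).trans
      ((Category.assoc _ _ _).symm.trans (congrArg (· ≫ (O i).ι) he))).trans pullback.condition.symm
  let e := fun i => (h i).some
  obtain ⟨m, hm, hmi⟩ := key A B e
  obtain ⟨n, hn, hni⟩ := key B A fun i => (e i).symm
  have inv : ∀ (A B : FEt.Cat X) (e : ∀ i, (FEt.restrict (O i).ι).obj A ≅ (FEt.restrict (O i).ι).obj B)
      (m : A.left ⟶ B.left) (n : B.left ⟶ A.left),
      (∀ i, pullback.fst A.hom (O i).ι ≫ m =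
        ((MorphismProperty.Over.forget _ _ _ ⋙ Over.forget _).mapIso (e i)).hom ≫ pullback.fst B.hom (O i).ι) →
      (∀ i, pullback.fst B.hom (O i).ι ≫ n =
        ((MorphismProperty.Over.forget _ _ _ ⋙ Over.forget _).mapIso (e i)).inv ≫ pullback.fst A.hom (O i).ι) →
      m ≫ n = 𝟙 A.left := by
    intro A B e m n hmi hni
    let 𝒱 : A.left.OpenCover := 𝒰.pullback₁ A.hom
    refine 𝒱.hom_ext _ _ fun (i : ι) => ?_
    show pullback.fst A.hom (O i).ι ≫ m ≫ n = pullback.fst A.hom (O i).ι ≫ 𝟙 _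
    refine ((Category.assoc _ _ _).symm.trans (congrArg (· ≫ n) (hmi i))).trans ?_
    refine (Category.assoc _ _ _).trans ((congrArg (_ ≫ ·) (hni i)).trans ?_)
    exact (Iso.hom_inv_id_assoc _ _).trans (Category.comp_id _).symm
  exact ⟨MorphismProperty.Over.isoMk ⟨m, n, inv A B e m n hmi hni,
    inv B A (fun i => (e i).symm) n m hni hmi⟩ hm⟩

variable {k : Type u} [Field k] [IsAlgClosed k] {X Y : Scheme.{u}}

/-- the structure map of a point is trivial -/
theorem point_comp [Nonempty X] (pX : X ⟶ Spec (CommRingCat.of k)) (pY : Y ⟶ Spec (CommRingCat.of k))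
    (y : Spec (CommRingCat.of k) ⟶ Y) (hy : 𝟙 X ≫ pX = (pX ≫ y) ≫ pY) : y ≫ pY = 𝟙 _ := by
  haveI : Surjective pX := ⟨fun z => by
    obtain ⟨x⟩ : Nonempty X := inferInstance
    exact ⟨x, Subsingleton.elim (α := Spec (CommRingCat.of k)) _ _⟩⟩
  haveI : Flat pX := Groth.L07.SyntOverField.flat_over_field pX
  haveI := Flat.epi_of_flat_of_surjective pX
  rw [← cancel_epi pX, Category.comp_id, ← Category.assoc, ← hy, Category.id_comp]

/-- covers of an empty scheme are isomorphic -/
theorem nonempty_iso_of_isEmpty [IsEmpty X] (A B : FEt.Cat X) : Nonempty (A ≅ B) := by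
  haveI : IsEmpty A.left := ⟨fun a => (‹IsEmpty X›).false ((A.hom : A.left ⟶ X) a)⟩
  haveI : IsEmpty B.left := ⟨fun a => (‹IsEmpty X›).false ((B.hom : B.left ⟶ X) a)⟩
  exact ⟨MorphismProperty.Over.isoMk (isInitialOfIsEmpty.uniqueUpToIso isInitialOfIsEmpty)
    (isInitialOfIsEmpty.hom_ext _ _)⟩

/-- the slices over two rational points -/
theorem nonempty_iso_slices (pX : X ⟶ Spec (CommRingCat.of k)) (pY : Y ⟶ Spec (CommRingCat.of k))
    [IsLocallyNoetherian X] [IsLocallyNoetherian Y] [ConnectedSpace Y] (hprop : IsProper pX ∨ IsProper pY)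
    (Z : FEt.Cat (pullback pX pY))
    (y y' : Spec (CommRingCat.of k) ⟶ Y) (hy : 𝟙 X ≫ pX = (pX ≫ y) ≫ pY) (hy' : 𝟙 X ≫ pX = (pX ≫ y') ≫ pY) :
    Nonempty ((FEt.restrict (pullback.lift (𝟙 X) (pX ≫ y) hy)).obj Z ≅
      (FEt.restrict (pullback.lift (𝟙 X) (pX ≫ y') hy')).obj Z) := by
  rcases hprop with hX | hY
  · rcases isEmpty_or_nonempty X with hE | hE
    · exact nonempty_iso_of_isEmpty _ _
    obtain ⟨V, hV⟩ := exists_isConst Z
    have key : ∀ (y : Spec (CommRingCat.of k) ⟶ Y) (hy : 𝟙 X ≫ pX = (pX ≫ y) ≫ pY),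
        Nonempty ((FEt.restrict (pullback.lift (𝟙 X) (pX ≫ y) hy)).obj Z ≅ V) := fun y hy => by
      refine nonempty_iso_of_isConst (ξ := y) ⟨?_⟩ (hV k y)
      refine ((restrictComp (pullback.fst pX (y ≫ pY)) (pullback.lift (𝟙 X) (pX ≫ y) hy)).app Z).symm ≪≫
        (restrictCongr ?_).app Z
      apply pullback.hom_ext
      · simp only [jT, Category.assoc, pullback.lift_fst, Category.comp_id]
      · simp only [jT, Category.assoc, pullback.lift_snd]
        rw [pullback.condition_assoc]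
        exact (congrArg (pullback.snd pX (y ≫ pY) ≫ ·) ((congrArg (· ≫ y) (point_comp pX pY y hy)).trans (Category.id_comp y)))
    obtain ⟨i⟩ := key y hy
    obtain ⟨i'⟩ := key y' hy'
    exact ⟨i ≪≫ i'.symm⟩
  · let ι := {C : Set X // ∃ x, C = connectedComponent x}
    let O : ι → X.Opens := fun C => ⟨C.1, by obtain ⟨_, x, rfl⟩ := C; exact (isClopen_connectedComponent x).2⟩
    refine nonempty_iso_of_cover O (fun x => ⟨⟨_, x, rfl⟩, mem_connectedComponent⟩) ?_ fun C => ?_
    · rintro ⟨_, a, rfl⟩ ⟨_, b, rfl⟩ hne x (ha : x ∈ connectedComponent a) (hb : x ∈ connectedComponent b)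
      exact hne (Subtype.ext ((connectedComponent_eq ha).trans (connectedComponent_eq hb).symm))
    haveI hCc : ConnectedSpace ↥(O C).toScheme := by
      obtain ⟨_, x, rfl⟩ := C; exact isConnected_iff_connectedSpace.1 isConnected_connectedComponent
    haveI : Nonempty X := let ⟨_, x, _⟩ := C; ⟨x⟩
    haveI : IsLocallyNoetherian (O C).toScheme := isLocallyNoetherian_of_isOpenImmersion (O C).ι
    let pC := (O C).ι ≫ pX
    let ν : pullback pY pC ⟶ pullback pX pY :=
      pullback.lift (pullback.snd pY pC ≫ (O C).ι) (pullback.fst pY pC) (by rw [Category.assoc]; exact pullback.condition.symm)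
    obtain ⟨P, U, hP, ⟨i⟩⟩ := exists_split_family pY pC ((FEt.restrict ν).obj Z)
    haveI : IsFinite P.hom := P.prop.1
    let pP : P.left ⟶ Spec (CommRingCat.of k) := P.hom ≫ pY
    haveI : IsProper pP := inferInstanceAs (IsProper (P.hom ≫ pY))
    let μ := pullback.map pP pC pY pC P.hom (𝟙 _) (𝟙 _)
          (Category.comp_id _) ((Category.comp_id _).trans (Category.id_comp _).symm)
    have key : ∀ (y : Spec (CommRingCat.of k) ⟶ Y) (hy : 𝟙 X ≫ pX = (pX ≫ y) ≫ pY),
        Nonempty ((FEt.restrict (O C).ι).obj ((FEt.restrict (pullback.lift (𝟙 X) (pX ≫ y) hy)).obj Z) ≅ U) := by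
      intro y hy
      have hy1 := point_comp pX pY y hy
      obtain ⟨p₀, hp₀⟩ := hP.surj (y default)
      haveI : CompactSpace P.left := QuasiCompact.compactSpace_of_compactSpace pP
      obtain ⟨p₁, hp₁, hcl⟩ := (isClosed_closure (s := ({p₀} : Set P.left))).exists_closed_singleton
        ⟨p₀, subset_closure rfl⟩
      let p := pointOfClosedPoint pP p₁ hcl
      have hp : p ≫ pP = 𝟙 _ := pointOfClosedPoint_comp pP p₁ hcl
      have hpy : p ≫ P.hom = y := by
        refine ext_of_apply_closedPoint_eq pY ((Category.assoc _ _ _).trans hp) hy1 ?_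
        rw [Scheme.Hom.comp_apply, pointOfClosedPoint_apply]
        have h1 : P.hom p₀ ⤳ P.hom p₁ := (specializes_iff_mem_closure.2 hp₁).map P.hom.continuous
        rw [hp₀] at h1
        haveI : IsClosedImmersion (y ≫ pY) := by rw [hy1]; infer_instance
        haveI : IsClosedImmersion y := IsClosedImmersion.of_comp y pY
        obtain ⟨w, hw⟩ := h1.mem_closed y.isClosedEmbedding.isClosed_range ⟨default, rfl⟩
        exact hw.symm.trans (congrArg y (Subsingleton.elim (α := Spec (CommRingCat.of k)) _ _))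
      let r : (O C).toScheme ⟶ pullback pP pC := pullback.lift (pC ≫ p) (𝟙 _)
        (by rw [Category.assoc, hp, Category.comp_id, Category.id_comp])
      have er : r ≫ pullback.snd pP pC = 𝟙 _ := pullback.lift_snd _ _ _
      have eμ : (r ≫ μ) ≫ ν = (O C).ι ≫ pullback.lift (𝟙 X) (pX ≫ y) hy := by
        apply pullback.hom_ext
        · simp only [r, μ, ν, Category.assoc, pullback.lift_fst, pullback.lift_snd_assoc, Category.id_comp, Category.comp_id]
        · simp only [r, μ, ν, Category.assoc, pullback.lift_fst, pullback.lift_snd, pullback.lift_fst_assoc, hpy, pC]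
      exact ⟨((restrictComp (O C).ι (pullback.lift (𝟙 X) (pX ≫ y) hy)).app Z).symm ≪≫ (restrictCongr eμ.symm).app Z ≪≫
        (restrictComp (r ≫ μ) ν).app Z ≪≫ (restrictComp r μ).app _ ≪≫ (FEt.restrict r).mapIso i.symm ≪≫
        ((restrictComp r (pullback.snd pP pC)).app U).symm ≪≫ (restrictCongr er).app U ≪≫
        MorphismProperty.Over.isoMk (@asIso _ _ _ _ (pullback.fst U.hom (𝟙 (O C).toScheme)) ((IsPullback.of_hasPullback U.hom (𝟙 (O C).toScheme)).isIso_fst_of_isIso)) (pullback.condition.trans (Category.comp_id _))⟩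
    obtain ⟨i₁⟩ := key y hy
    obtain ⟨i₂⟩ := key y' hy'
    exact ⟨i₁ ≪≫ i₂.symm⟩

end Groth.L27.Product
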